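import Groth.Agent.KoszCechLib.Kz
import Groth.Agent.KoszScaleLib.Swap
import Groth.Agent.KoszScaleLib.Split
import Groth.Agent.RegImmKindLib.LocK
import Groth.Prelude.Def_LCI2
import Groth.Prelude.Def_ega3

/-!
# Powers of Koszul regular sequences, vanishing of the Koszul colimits
-/

set_option autoImplicit false
set_option backward.isDefEq.respectTransparency false
set_option linter.style.haveILetI false

universe u

open CategoryTheory CategoryTheory.Limits CochainComplex HomologicalComplex

noncomputable section

namespace KoszPowLib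

variable {A : Type u} [CommRing A]

theorem smul_bijective_of_cone {f : A} {K : CochainComplex (ModuleCat.{u} A) ℤ} {n : ℤ}
    (h : IsZero ((mappingCone (f • 𝟙 K)).homology n)) :
    Function.Surjective (fun y : K.homology n => f • y) ∧
      Function.Injective (fun y : K.homology (n + 1) => f • y) := by
  refine ⟨fun y => ?_, ?_⟩
  · obtain ⟨z, hz⟩ := (ShortComplex.moduleCat_exact_iff _).1 (LocCohLib.exact_inr (f • 𝟙 K) n) y
      (@Subsingleton.elim _ (ModuleCat.subsingleton_of_isZero h) _ _)
    exact ⟨z, (KoszCechLib.homologyMap_smul_id_apply f K n z).symm.trans hz⟩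
  · intro y y' hy
    have h0 : f • (y - y') = 0 := by rw [smul_sub]; exact sub_eq_zero.2 hy
    obtain ⟨z, hz⟩ := KoszCechLib.exists_dl_eq f K n (y - y') h0
    rw [@Subsingleton.elim _ (ModuleCat.subsingleton_of_isZero h) z 0, map_zero] at hz
    exact sub_eq_zero.1 hz.symm

/-- The conditions "multiplication is surjective / injective" pass to powers. -/
theorem isZero_cone_pow {f : A} {K : CochainComplex (ModuleCat.{u} A) ℤ} {n : ℤ}
    (h : IsZero ((mappingCone (f • 𝟙 K)).homology n)) (k : ℕ) :
    IsZero ((mappingCone (f ^ k • 𝟙 K)).homology n) := by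
  obtain ⟨hs, hi⟩ := smul_bijective_of_cone h
  have e : ∀ (m : ℤ), (fun y : K.homology m => f ^ k • y) = (fun y : K.homology m => f • y)^[k] := fun m => by
    funext y
    exact (congrFun (smul_iterate f k) y).symm
  exact KoszCechLib.isZero_cone_of_bijective _ _ _ (e n ▸ hs.iterate k) (e (n + 1) ▸ hi.iterate k)

theorem isKoszulRegularSeq_perm {l l' : List A} (h : l.Perm l') (hl : LCI.IsKoszulRegularSeq A l) :
    LCI.IsKoszulRegularSeq A l' := fun i hi => by
  obtain ⟨e⟩ := Groth.Agent.KoszScale.nonempty_perm h
  exact (hl i hi).of_iso ((homologyFunctor (ModuleCat.{u} A) (ComplexShape.up ℤ) i).mapIso e).symm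

theorem isKoszulRegularSeq_pow_append (k : ℕ) : ∀ t d : List A, LCI.IsKoszulRegularSeq A (t ++ d) →
    LCI.IsKoszulRegularSeq A (t.map (· ^ k) ++ d)
  | [], d, h => h
  | f :: t, d, h => by
    have h2 : LCI.IsKoszulRegularSeq A (f ^ k :: (t ++ d)) := fun i hi => isZero_cone_pow (h i hi) k
    have h3 := isKoszulRegularSeq_pow_append k t (f ^ k :: d) (isKoszulRegularSeq_perm List.perm_middle.symm h2)
    exact isKoszulRegularSeq_perm List.perm_middle h3

/-- Powers of a Koszul regular sequence form a Koszul regular sequence. -/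
theorem isKoszulRegularSeq_pow {l : List A} (h : LCI.IsKoszulRegularSeq A l) (k : ℕ) :
    LCI.IsKoszulRegularSeq A (l.map (· ^ k)) := by
  have := isKoszulRegularSeq_pow_append k l [] (by rwa [List.append_nil])
  rwa [List.append_nil] at this

/-- The Koszul complex with coefficients is the base change of the Koszul complex. -/
theorem nonempty_T_iso (M : ModuleCat.{u} A) : ∀ l : List A,
    Nonempty (Groth.Agent.KoszChiLib.T l M ≅ CohIII.koszulCx M l)
  | [] => ⟨(singleMapHomologicalComplex (MonoidalCategory.tensorRight M) (ComplexShape.up ℤ) 0).app (ModuleCat.of A A) ≪≫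
      (single (ModuleCat.{u} A) (ComplexShape.up ℤ) 0).mapIso (MonoidalCategory.leftUnitor M)⟩
  | f :: l => by
    obtain ⟨e⟩ := nonempty_T_iso M l
    exact ⟨Groth.Agent.KoszChiLib.coneIso f l M ≪≫ KoszTenLib.coneMapIso e f⟩

/-- Flat coefficients keep the homology of a Koszul regular sequence concentrated. -/
theorem isZero_koszulCx {l : List A} (hl : LCI.IsKoszulRegularSeq A l) (M : ModuleCat.{u} A) [Module.Flat A M]
    (i : ℤ) (hi : i ≠ 0) : IsZero ((CohIII.koszulCx M l).homology i) := by
  obtain ⟨e⟩ := nonempty_T_iso M l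
  haveI : PreservesFiniteLimits (MonoidalCategory.tensorRight M) :=
    (Module.Flat.iff_preservesFiniteLimits_tensorRight M).1 inferInstance
  haveI : (MonoidalCategory.tensorRight M).PreservesHomology :=
    Functor.preservesHomologyOfExact _
  refine IsZero.of_iso ?_ (((homologyFunctor (ModuleCat.{u} A) (ComplexShape.up ℤ) i).mapIso e).symm ≪≫
    ((Koszul.koszul A l).sc i).mapHomologyIso (MonoidalCategory.tensorRight M))
  exact Functor.map_isZero _ (hl i hi)

/-- The Koszul complex lives in nonpositive degrees. -/
theorem isZero_koszulCx_X (M : ModuleCat.{u} A) : ∀ (l : List A) (i : ℤ), 0 < i → IsZero ((CohIII.koszulCx M l).X i)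
  | [], i, h => isZero_single_obj_X _ _ _ _ (by omega)
  | f :: l, i, h => by
    have h1 := isZero_koszulCx_X M l (i + 1) (by omega)
    have h2 := isZero_koszulCx_X M l i h
    rw [IsZero.iff_id_eq_zero]
    refine ((mappingCone.id_X (f • 𝟙 (CohIII.koszulCx M l)) i (i + 1) rfl).symm).trans ?_
    rw [h1.eq_of_tgt ((mappingCone.fst (f • 𝟙 (CohIII.koszulCx M l))).1.v i (i + 1) rfl) 0,
      h2.eq_of_tgt ((mappingCone.snd (f • 𝟙 (CohIII.koszulCx M l))).v i i (add_zero i)) 0,
      zero_comp, zero_comp, add_zero]

theorem subsingleton_koszulHLim (fs : List A) (M : ModuleCat.{u} A) (p : ℕ)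
    (h : ∀ n, 1 ≤ n → IsZero (CohIII.koszulHPow fs M p n)) : Subsingleton (CohIII.koszulHLim fs M p) := by
  unfold CohIII.koszulHLim
  refine subsingleton_of_forall_eq 0 fun x => ?_
  induction x using Module.DirectLimit.induction_on with
  | _ n z =>
    refine Eq.trans (Module.DirectLimit.of_f (R := A) (G := fun n => (CohIII.koszulHPow fs M p n : Type u))
      (f := fun n m h => (HomologicalComplex.homologyMap (CohIII.koszulTrans M n m h fs) ((p : ℤ) - fs.length)).hom) (hij := Nat.le_succ n) (x := z)).symm ?_
    rw [@Subsingleton.elim _ (ModuleCat.subsingleton_of_isZero (h (n + 1) (by omega))) ((HomologicalComplex.homologyMap (CohIII.koszulTrans M n (n + 1) (Nat.le_succ n) fs) ((p : ℤ) - fs.length)).hom z) 0]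
    exact map_zero _

/-- The Koszul colimits vanish beyond the length. -/
theorem subsingleton_koszulHLim_of_length_lt (fs : List A) (M : ModuleCat.{u} A) (p : ℕ) (hp : fs.length < p) :
    Subsingleton (CohIII.koszulHLim fs M p) :=
  subsingleton_koszulHLim fs M p fun n _ =>
    ShortComplex.isZero_homology_of_isZero_X₂ _ (isZero_koszulCx_X M _ _ (by omega))

/-- The Koszul colimits of a Koszul regular sequence on a flat module are concentrated in top degree. -/
theorem subsingleton_koszulHLim_of_koszulRegular {fs : List A} (hfs : LCI.IsKoszulRegularSeq A fs)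
    (M : ModuleCat.{u} A) [Module.Flat A M] (p : ℕ) (hp : p ≠ fs.length) :
    Subsingleton (CohIII.koszulHLim fs M p) :=
  subsingleton_koszulHLim fs M p fun n _ => isZero_koszulCx (isKoszulRegularSeq_pow hfs n) M _ (by omega)

/-- Koszul regularity along a flat map. -/
theorem isKoszulRegularSeq_map {B : Type u} [CommRing B] [Algebra A B] [Module.Flat A B] {rs : List A}
    (h : LCI.IsKoszulRegularSeq A rs) : LCI.IsKoszulRegularSeq B (rs.map (algebraMap A B)) :=
  RegImmKindLib.seq_map' (k := .koszul) (by decide) h

end KoszPowLib
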